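import Mathlib

/-!
The numbers: the conditions on a trace size; O±(2m,2) (m ≥ 4) has none.

Owner: helper42.
-/

set_option autoImplicit false
set_option linter.style.haveILetI false
set_option linter.unusedSectionVars false
set_option linter.unusedVariables false

namespace Cfsg.Agent.Lib.FischerImpossible42.Arith

/-- the conditions on a trace size -/
def Fits (N A n μ F : ℕ) : Prop :=
  (∃ h, μ = n + 1 + 2 * h ∧ 2 * h + 1 + A ≤ N) ∧ μ ≤ N ∧ μ * F + N * (1 + A) = N * N ∧
    (2 * (N : ℤ) + ((N : ℤ) + F) * ((A : ℤ) - μ) = 0 ∨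
      ∃ s e : ℤ, 0 < s ∧ s * s = ((A : ℤ) - μ) ^ 2 + 4 * ((N : ℤ) - μ) ∧
        2 * (N : ℤ) + ((N : ℤ) + F) * ((A : ℤ) - μ) = e * s)

variable {N A n μ F : ℕ}

theorem Fits.dvd (hf : Fits N A n μ F) (c : ℕ) (hc : c + 1 + A = N) : μ ∣ N * c :=
  ⟨F, by
    have h := hf.2.2.1
    subst hc
    linear_combination -h⟩

/-- a square discriminant, or the conference parameters -/
theorem Fits.square (hf : Fits N A n μ F) (hN : A + 1 < N) :
    (∃ s e : ℤ, 0 < s ∧ s * s = ((μ : ℤ) - A - 2) ^ 2 + 4 * ((N : ℤ) - 1 - A) ∧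
      2 * (N : ℤ) + ((N : ℤ) + F) * ((A : ℤ) - μ) = e * s) ∨ N = 2 * (A + 1) := by
  obtain ⟨-, hμN, hF, h | ⟨s, e, hs, hss, he⟩⟩ := hf
  · refine Or.inr ?_
    have hd : (A : ℤ) < μ := by
      by_contra hle
      push Not at hle
      nlinarith [mul_nonneg (by positivity : (0 : ℤ) ≤ (N : ℤ) + F) (by linarith : (0 : ℤ) ≤ (A : ℤ) - μ)]
    have hd2 : (μ : ℤ) ≤ A + 2 := by
      nlinarith [mul_nonneg (by positivity : (0 : ℤ) ≤ (F : ℤ)) (by linarith : (0 : ℤ) ≤ (μ : ℤ) - A)]
    rcases (show μ = A + 1 ∨ μ = A + 2 by omega) with rfl | rfl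
    · have hFN : F = N := by
        have : (F : ℤ) = N := by push_cast at h; linarith
        exact_mod_cast this
      subst hFN
      have : (A + 1) + (1 + A) = F :=
        Nat.eq_of_mul_eq_mul_right (show 0 < F by omega) (by linear_combination hF)
      omega
    · have hF0 : F = 0 := by
        have : (F : ℤ) = 0 := by push_cast at h; linarith
        exact_mod_cast this
      subst hF0
      have : (1 + A) = N := Nat.eq_of_mul_eq_mul_left (show 0 < N by omega) (by linear_combination hF)
      omega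
  · exact Or.inl ⟨s, e, hs, by rw [hss]; ring, he⟩

/-! ### O±(2m,2) -/

theorem orth_big {q e w s : ℤ} (hq : 16 ≤ q) (he : e = 1 ∨ e = -1)
    (hw : 3 * w = q * q + 3 * (e * q) + 2) (hs : 0 < s) (hss : s * s = w * w + 4 * (q * q - e * q)) : False := by
  obtain ⟨P, rfl⟩ : ∃ P, P = e * q := ⟨_, rfl⟩
  have hw0 : 0 ≤ w := by rcases he with rfl | rfl <;> nlinarith
  have h1 : w + 4 < s := by
    by_contra hle
    push Not at hle
    have := mul_self_le_mul_self hs.le hle
    rcases he with rfl | rfl <;> nlinarith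
  have h2 : s < w + 8 := by
    by_contra hle
    push Not at hle
    have := mul_self_le_mul_self (by linarith : (0 : ℤ) ≤ w + 8) hle
    rcases he with rfl | rfl <;> nlinarith
  rcases (show s = w + 5 ∨ s = w + 6 ∨ s = w + 7 by omega) with rfl | rfl | rfl <;>
  · ring_nf at hss
    ring_nf at hw
    omega

/-- O±(2m,2), `q = 2^(m-1)`, sign `e` -/
theorem no_orth {q : ℕ} {e : ℤ} (he : e = 1 ∨ e = -1) (hq4 : 4 ∣ q) (hq : q = 8 ∨ 16 ≤ q)
    (hcop : ∀ a, Odd a → Nat.Coprime a (q * q))
    (hN : (N : ℤ) = q * (2 * q - e)) (hA : (A : ℤ) + 1 = q * q) (hn : 2 * (n : ℤ) = q * (q + e))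
    (hf : Fits N A n μ F) : False := by
  have hq8 : (8 : ℤ) ≤ q := by exact_mod_cast (by omega : 8 ≤ q)
  obtain ⟨r, hr⟩ := hq4
  have hrz : (q : ℤ) = 4 * r := by exact_mod_cast hr
  have hneven : Even n := by
    have : (n : ℤ) = 2 * ((r : ℤ) * (4 * r + e)) := by rw [hrz] at hn; linarith
    have h2 : Even (n : ℤ) := ⟨(r : ℤ) * (4 * r + e), by rw [this]; ring⟩
    exact_mod_cast h2
  obtain ⟨⟨h, hμ, hh⟩, hμN, -, -⟩ := id hf
  have hodd : Odd μ := by
    rw [hμ]; obtain ⟨t, ht⟩ := hneven; exact ⟨t + h, by omega⟩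
  have hμz : (μ : ℤ) = n + 1 + 2 * h := by exact_mod_cast hμ
  -- the co-factor
  have hq1 : 1 ≤ q := by omega
  obtain ⟨u, hu⟩ : ∃ u : ℕ, (u : ℤ) = (2 * q - e) * (q - e) :=
    ⟨((2 * (q : ℤ) - e) * (q - e)).toNat, Int.toNat_of_nonneg (by rcases he with rfl | rfl <;> nlinarith)⟩
  obtain ⟨c, hc⟩ : ∃ c : ℕ, (c : ℤ) = q * (q - e) :=
    ⟨((q : ℤ) * (q - e)).toNat, Int.toNat_of_nonneg (by rcases he with rfl | rfl <;> nlinarith)⟩
  have hcA : c + 1 + A = N := by
    have : (c : ℤ) + 1 + A = N := by rw [hc, hN]; linear_combination hA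
    exact_mod_cast this
  have hdvd : μ ∣ u * (q * q) := by
    have h1 := hf.dvd c hcA
    have : N * c = u * (q * q) := by
      have : (N : ℤ) * c = u * (q * q) := by rw [hN, hc, hu]; ring
      exact_mod_cast this
    rwa [this] at h1
  obtain ⟨j, hj⟩ := (hcop μ hodd).dvd_of_dvd_mul_right hdvd
  have hjz : (μ : ℤ) * j = (2 * q - e) * (q - e) := by rw [← hu]; exact_mod_cast hj.symm
  have hjodd : Odd j := by
    have : Odd u := by
      have : Odd (u : ℤ) := by
        rw [hu, hrz]
        rcases he with rfl | rfl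
        · exact ⟨16 * (r : ℤ) ^ 2 - 6 * r, by ring⟩
        · exact ⟨16 * (r : ℤ) ^ 2 + 6 * r, by ring⟩
      exact_mod_cast this
    rw [hj] at this
    exact (Nat.odd_mul.mp this).2
  have hNz : (μ : ℤ) ≤ q * (2 * q - e) := hN ▸ (by exact_mod_cast hμN)
  have hμn : (n : ℤ) + 1 ≤ μ := by omega
  rcases hq with rfl | hq16
  · -- q = 8
    rcases he with rfl | rfl
    · have hNv : N = 120 := by norm_num at hN; omega
      have hnv : n = 36 := by norm_num at hn; omega
      have hAv : A = 63 := by norm_num at hA; omega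
      subst hNv hnv hAv
      have : μ * j = 105 := by norm_num at hjz; exact_mod_cast hjz
      have hμd : μ ∣ 105 := ⟨j, this.symm⟩
      rcases hf.square (by norm_num) with ⟨s, e', hs, hss, -⟩ | hconf
      · have : μ = 105 := by
          have := Nat.mem_divisors.mpr ⟨hμd, by norm_num⟩
          rw [show Nat.divisors 105 = {1, 3, 5, 7, 15, 21, 35, 105} from by decide] at this
          simp only [Finset.mem_insert, Finset.mem_singleton] at this
          omega
        subst this
        omega
      · norm_num at hconf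
    · have hNv : N = 136 := by norm_num at hN; omega
      have hnv : n = 28 := by norm_num at hn; omega
      have hAv : A = 63 := by norm_num at hA; omega
      subst hNv hnv hAv
      have : μ * j = 153 := by norm_num at hjz; exact_mod_cast hjz
      have hμd : μ ∣ 153 := ⟨j, this.symm⟩
      have hμv : μ = 51 := by
        have := Nat.mem_divisors.mpr ⟨hμd, by norm_num⟩
        rw [show Nat.divisors 153 = {1, 3, 9, 17, 51, 153} from by decide] at this
        simp only [Finset.mem_insert, Finset.mem_singleton] at this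
        omega
      subst hμv
      obtain ⟨-, -, hF, -⟩ := id hf
      have hFv : F = 192 := by omega
      subst hFv
      rcases hf.square (by norm_num) with ⟨s, e', hs, hss, he'⟩ | hconf
      · norm_num at hss
        have : s = 22 := by nlinarith
        subst this
        norm_num at he'
        omega
      · norm_num at hconf
  have hq16z : (16 : ℤ) ≤ q := by exact_mod_cast hq16
  have hj5 : j < 5 := by
    by_contra hj5
    push Not at hj5
    have h5 : (5 : ℤ) ≤ j := by exact_mod_cast hj5
    have := mul_le_mul hμn h5 (by norm_num) (by positivity)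
    rcases he with rfl | rfl <;> nlinarith
  obtain ⟨i, hi⟩ := hjodd
  rcases (show j = 1 ∨ j = 3 by omega) with rfl | rfl
  · -- j = 1
    push_cast at hjz
    have hhz : 2 * (h : ℤ) + 1 + A ≤ N := by exact_mod_cast hh
    rcases he with rfl | rfl <;> nlinarith
  · push_cast at hjz
    have hc0 : 0 < c := by
      have : (0 : ℤ) < c := by rw [hc]; rcases he with rfl | rfl <;> nlinarith
      exact_mod_cast this
    rcases hf.square (by omega) with ⟨s, e', hs, hss, -⟩ | hconf
    · refine orth_big (q := (q : ℤ)) (e := e) (w := (q : ℤ) * q + 1 - μ) (s := s) hq16z he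
        ?_ hs ?_
      · rcases he with rfl | rfl <;> linear_combination -hjz
      rw [hss]
      linear_combination 4 * hN + ((A : ℤ) + q * q - 2 * μ - 1) * hA
    · have : (q : ℤ) * (2 * q - e) = 2 * (q * q) := by
        rw [← hN, ← hA]; exact_mod_cast hconf
      rcases he with rfl | rfl <;> nlinarith

end Cfsg.Agent.Lib.FischerImpossible42.Arith
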