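import Mathlib
import Cfsg.Agent.Lib.FischerImpossible42.Arith

/-!
U(5,2), M(24), S5, and small traces against Sp(2m,2).

Owner: helper42.
-/

set_option autoImplicit false
set_option linter.style.haveILetI false
set_option linter.unusedSectionVars false
set_option linter.unusedVariables false

namespace Cfsg.Agent.Lib.FischerImpossible42.Arith

variable {N A n μ F : ℕ}

/-! ### U(5,2), M(24), S5, Sp(2m,2) -/

/-- the candidates for U(5,2) -/
theorem unitary_five (hf : Fits 165 36 9 μ F) : μ = 30 ∨ μ = 66 := by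
  obtain ⟨⟨h, hμh, hh⟩, hμN, hF, -⟩ := id hf
  have hdvd : μ ∣ 165 * 128 := hf.dvd 128 (by norm_num)
  rcases hf.square (by norm_num) with ⟨s, e, hs, hss, he⟩ | hconf
  · have hs200 : s < 200 := by
      by_contra hge
      push Not at hge
      have := mul_self_le_mul_self (by norm_num : (0 : ℤ) ≤ 200) hge
      have hμ1 : (10 : ℤ) ≤ μ := by omega
      have hμ2 : (μ : ℤ) ≤ 165 := by exact_mod_cast hμN
      push_cast at hss
      nlinarith
    obtain ⟨t, rfl⟩ := Int.eq_ofNat_of_zero_le hs.le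
    have hμeq : μ = 10 + 2 * h := by omega
    subst hμeq
    have hh65 : h < 65 := by omega
    have h1 : ((t * t : ℕ) : ℤ) = (((10 + 2 * h : ℕ) : ℤ) - 38) * (((10 + 2 * h : ℕ) : ℤ) - 38) + 512 := by
      push_cast at hss ⊢
      linarith
    have hm : 165 * 128 % (10 + 2 * h) = 0 := Nat.mod_eq_zero_of_dvd hdvd
    have hfree : (List.range 65).all (fun k => decide (165 * 128 % (10 + 2 * k) ≠ 0) ||
        decide (10 + 2 * k = 30) || decide (10 + 2 * k = 66) || decide (k = 0) || (List.range 200).all (fun t =>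
          decide (((t * t : ℕ) : ℤ) ≠ (((10 + 2 * k : ℕ) : ℤ) - 38) * (((10 + 2 * k : ℕ) : ℤ) - 38) + 512))) =
        true := by decide +kernel
    simp only [List.all_eq_true, List.mem_range, Bool.or_eq_true, decide_eq_true_eq] at hfree
    rcases hfree h hh65 with (((h' | h') | h') | h') | h'
    · exact absurd hm h'
    · exact Or.inl h'
    · exact Or.inr h'
    · exfalso
      subst h'
      have hF2 : F = 2112 := by omega
      subst hF2
      push_cast at hss
      have ht36 : (t : ℤ) = 36 := by nlinarith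
      rw [ht36] at he
      norm_num at he
      omega
    · exact absurd h1 (h' t (by omega))
  · omega

/-- M(24) -/
theorem no_M24 (hf : Fits 306936 31671 3240 μ F) : False := by
  obtain ⟨⟨h, hμh, -⟩, hμN, hF, -⟩ := id hf
  have hdvd : μ ∣ 306936 * 275264 := hf.dvd 275264 (by norm_num)
  rcases hf.square (by norm_num) with ⟨s, e, hs, hss, -⟩ | hconf
  swap
  · omega
  obtain ⟨w, hw⟩ : ∃ w : ℤ, (μ : ℤ) - 31673 = 2 * w := ⟨((μ : ℤ) - 31673) / 2, by omega⟩
  have hss2 : s * s = 4 * (w * w + 275264) := by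
    rw [hss, show ((μ : ℤ) - (31671 : ℕ) - 2) = 2 * w by push_cast; linarith]
    push_cast; ring
  obtain ⟨t, rfl⟩ : ∃ t : ℤ, s = 2 * t := by
    rcases Int.even_or_odd s with ⟨t, ht⟩ | ⟨t, ht⟩
    · exact ⟨t, by omega⟩
    · exfalso
      subst ht
      have : 4 * (w * w + 275264) - 4 * (t * t + t) = 1 := by linarith
      omega
  have htt : t * t = w * w + 275264 := by linarith
  have habs := abs_mul_abs_self w
  have hlt : |w| < t := by
    by_contra hle
    push Not at hle
    have := mul_self_le_mul_self (by omega : (0 : ℤ) ≤ t) hle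
    linarith
  obtain ⟨d, hd⟩ : ∃ d : ℕ, (d : ℤ) = t - |w| := ⟨(t - |w|).toNat, Int.toNat_of_nonneg (by linarith)⟩
  obtain ⟨W, hW⟩ : ∃ W : ℕ, (W : ℤ) = |w| := ⟨|w|.toNat, Int.toNat_of_nonneg (abs_nonneg w)⟩
  have hprod : d * (d + 2 * W) = 275264 := by
    have : (d : ℤ) * (d + 2 * W) = 275264 := by rw [hd, hW]; linarith
    exact_mod_cast this
  have hd525 : d < 525 := by nlinarith
  have hbad : ∀ d < 525, 275264 % d = 0 → ∀ b : Bool,
      ¬ (d ≤ 275264 / d ∧ (275264 / d - d) % 2 = 0 ∧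
        3241 ≤ (if b then 31673 + 2 * ((275264 / d - d) / 2) else 31673 - 2 * ((275264 / d - d) / 2)) ∧
        (if b then 31673 + 2 * ((275264 / d - d) / 2) else 31673 - 2 * ((275264 / d - d) / 2)) ≤ 306936 ∧
        (if b then 31673 + 2 * ((275264 / d - d) / 2) else 31673 - 2 * ((275264 / d - d) / 2)) % 2 = 1 ∧
        306936 * 275264 %
          (if b then 31673 + 2 * ((275264 / d - d) / 2) else 31673 - 2 * ((275264 / d - d) / 2)) = 0) := by
    decide +kernel
  have hd0 : 0 < d := Nat.pos_of_ne_zero fun h0 => by rw [h0, zero_mul] at hprod; exact absurd hprod (by norm_num)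
  have hdiv : 275264 / d = d + 2 * W := Nat.div_eq_of_eq_mul_right hd0 hprod.symm
  have hmod : 275264 % d = 0 := Nat.mod_eq_zero_of_dvd ⟨_, hprod.symm⟩
  rcases abs_choice w with hch | hch <;> [have hc := hbad d hd525 hmod true; have hc := hbad d hd525 hmod false] <;>
  · simp only [hdiv, Bool.false_eq_true, if_true, if_false] at hc
    have hW2 : (d + 2 * W - d) / 2 = W := by omega
    rw [hW2] at hc
    have hμv := hW.trans hch
    refine hc ⟨by omega, by omega, by omega, by omega, by omega, ?_⟩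
    convert Nat.mod_eq_zero_of_dvd hdvd using 2
    omega

/-- S5 -/
theorem no_five (hf : Fits 10 3 1 2 F) : False := by
  obtain ⟨-, -, hF, -⟩ := id hf
  rcases hf.square (by norm_num) with ⟨s, e, hs, hss, -⟩ | hconf
  · norm_num at hss
    have : s < 6 := by nlinarith
    interval_cases s <;> norm_num at hss
  · omega

/-- Sp(2m,2), `q = 2^(m-1)`: the trace is bigger than `3 q² / 2` -/
theorem symp_large {q : ℕ} (hq4 : 4 ∣ q) (hq : 4 ≤ q) (hq3 : ¬ 3 ∣ q) (hN : N + 1 = 4 * (q * q)) (hA : A + 2 = 2 * (q * q))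
    (hn : n + 1 = q * q) (hf : Fits N A n μ F) : 3 * (q * q) < 2 * μ := by
  by_contra hle
  push Not at hle
  obtain ⟨r, rfl⟩ := hq4
  obtain ⟨Z, hZ⟩ : ∃ Z, Z = 4 * r * (4 * r) := ⟨_, rfl⟩
  rw [← hZ] at hN hA hn hle
  have hZ16 : ∃ t, Z = 16 * t ∧ 1 ≤ t := ⟨r * r, by rw [hZ]; ring, Nat.mul_pos (by omega) (by omega)⟩
  obtain ⟨t, hZt, ht1⟩ := hZ16
  obtain ⟨⟨h, hμh, hh⟩, hμN, hF, -⟩ := id hf
  rcases hf.square (by omega) with ⟨s, e, hs, hss, he⟩ | hconf
  swap
  · omega
  have hNz : (N : ℤ) = 4 * Z - 1 := by omega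
  have hAz : (A : ℤ) = 2 * Z - 2 := by omega
  rw [hNz, hAz] at hss
  set W : ℤ := 2 * (Z : ℤ) - μ with hW
  have hW1 : (Z : ℤ) ≤ 2 * W := by omega
  have hW2 : W ≤ Z := by omega
  have hss' : s * s = W * W + 8 * Z := by rw [hss, hW]; ring
  have h1 : W + 2 < s := by
    by_contra hc
    push Not at hc
    have := mul_self_le_mul_self hs.le hc
    nlinarith
  have h2 : s < W + 10 := by
    by_contra hc
    push Not at hc
    have := mul_self_le_mul_self (by omega : (0 : ℤ) ≤ W + 10) hc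
    nlinarith
  have hμ2 : μ = Z + 2 := by
    rcases (show s = W + 3 ∨ s = W + 4 ∨ s = W + 5 ∨ s = W + 6 ∨ s = W + 7 ∨ s = W + 8 ∨ s = W + 9 by omega)
      with rfl | rfl | rfl | rfl | rfl | rfl | rfl
    all_goals ring_nf at hss'
    case inr.inr.inr.inl =>
      exfalso
      have hthree : ∀ x : ℕ, (x % 3 = 0 → 3 ∣ x) := fun x h => Nat.dvd_of_mod_eq_zero h
      have h3 : 3 ∣ Z := hthree Z (by omega)
      rw [hZ] at h3
      have h4 : 3 ∣ 4 * r := (Nat.Prime.dvd_mul Nat.prime_three).mp h3 |>.elim id id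
      exact hq3 h4
    all_goals omega
  have hdvd : μ ∣ N * (2 * Z) := hf.dvd (2 * Z) (by omega)
  have h36 : μ ∣ 36 := by
    obtain ⟨c, hc⟩ := hdvd
    have hcz : (N : ℤ) * (2 * Z) = μ * c := by exact_mod_cast hc
    have hμz : (μ : ℤ) = Z + 2 := by exact_mod_cast hμ2
    have : (μ : ℤ) ∣ (36 : ℕ) := ⟨c - 8 * Z + 18, by
      push_cast
      linear_combination hcz - 2 * (Z : ℤ) * hNz + (8 * (Z : ℤ) - 18) * hμz⟩
    exact_mod_cast this
  have hμ18 : μ = 18 := by
    have := Nat.le_of_dvd (by norm_num) h36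
    obtain ⟨c, hc⟩ := h36
    rcases (show μ = 18 ∨ μ = 34 by omega) with h' | h'
    · exact h'
    · subst h'; omega
  subst hμ18
  have hNv : N = 63 := by omega
  have hAv : A = 30 := by omega
  subst hNv hAv
  have hFv : F = 112 := by omega
  subst hFv
  norm_num at hss'
  have hW14 : W = 14 := by omega
  rw [hW14] at hss'
  have : s = 18 := by nlinarith
  subst this
  norm_num at he
  omega

end Cfsg.Agent.Lib.FischerImpossible42.Arith
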