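import Mathlib
import Cfsg.Agent.Lib.FischerImpossible42.Arith

/-!
No trace size fits U(n,2), n ≥ 7.

Owner: helper42.
-/

set_option autoImplicit false
set_option linter.style.haveILetI false
set_option linter.unusedSectionVars false
set_option linter.unusedVariables false

namespace Cfsg.Agent.Lib.FischerImpossible42.Arith

variable {N A n μ F : ℕ}

/-! ### U(n,2) -/

/-- the unitary parameters: `X = 2^n`, `s = (-1)^n` -/
structure UPar (m : ℕ) (N A n : ℕ) : Prop where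
  hN : 6 * (N : ℤ) = 2 ^ (2 * m) + (-1) ^ m * 2 ^ m - 2
  hA : 6 * (A : ℤ) = 2 ^ (2 * m - 2) + (-1) ^ m * 2 ^ m - 8
  hn : 6 * (n : ℤ) = 2 ^ (2 * m - 4) + (-1) ^ m * 2 ^ (m - 2) - 2

/-- a candidate is excluded -/
def badCand (N A n nc s μ : ℕ) : Bool :=
  decide (μ ≤ n) || decide (N < μ) || decide (μ % 2 = 1) || decide (N * nc % μ ≠ 0) ||
    decide ((2 * (N : ℤ) + ((N : ℤ) + (N * nc / μ : ℕ)) * ((A : ℤ) - μ)) % (s : ℤ) ≠ 0)

/-- six times the parameters -/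
def sixN (m : ℕ) : ℕ := if m % 2 = 0 then 2 ^ (2 * m) + 2 ^ m - 2 else 2 ^ (2 * m) - 2 ^ m - 2

/-- six times the edge parameter -/
def sixA (m : ℕ) : ℕ := if m % 2 = 0 then 2 ^ (2 * m - 2) + 2 ^ m - 8 else 2 ^ (2 * m - 2) - 2 ^ m - 8

/-- six times the trace parameter of the model -/
def sixn (m : ℕ) : ℕ :=
  if m % 2 = 0 then 2 ^ (2 * m - 4) + 2 ^ (m - 2) - 2 else 2 ^ (2 * m - 4) - 2 ^ (m - 2) - 2

/-- both candidates of one factorisation are excluded -/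
def badPair (m i : ℕ) : Bool :=
  let b := 2 ^ i
  let c := 2 ^ (2 * m - 3 - i)
  let N := sixN m / 6
  let A := sixA m / 6
  let n := sixn m / 6
  let nc := 2 ^ (2 * m - 3)
  badCand N A n nc (c + b) (A + 2 + c - b) && (decide (A + 2 + b ≤ c) || badCand N A n nc (c + b) (A + 2 + b - c))

/-- the small cases -/
def smallFree : Bool :=
  (List.range 7).all fun r => (List.range (2 * (r + 7) - 2)).all fun i =>
    decide (2 * (r + 7) - 3 - i < i) || badPair (r + 7) i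

theorem smallFree_eq : smallFree = true := by decide +kernel

theorem two_pow_factor {k : ℕ} {a b : ℕ} (h : a * b = 2 ^ k) :
    ∃ i j, a = 2 ^ i ∧ b = 2 ^ j ∧ i + j = k := by
  obtain ⟨i, hi, rfl⟩ := (Nat.dvd_prime_pow Nat.prime_two).mp ⟨b, h.symm⟩
  refine ⟨i, k - i, rfl, ?_, by omega⟩
  refine Nat.eq_of_mul_eq_mul_left (pow_pos (by norm_num : 0 < 2) i) ?_
  rw [h, ← pow_add, Nat.add_sub_cancel' hi]

/-- the discriminant `w² + 2^(k)` is a square only at the differences of two powers of two -/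
theorem square_two_pow {k : ℕ} {s w : ℤ} (hk : 1 ≤ k) (hs : 0 < s) (hss : s * s = w * w + 2 ^ k) :
    ∃ i j : ℕ, i ≤ j ∧ i + j = k ∧ 2 * s = 2 ^ j + 2 ^ i ∧ (2 * w = 2 ^ j - 2 ^ i ∨ 2 * w = 2 ^ i - 2 ^ j) := by
  have hlt : |w| < s := by
    by_contra hle
    push Not at hle
    have := mul_self_le_mul_self hs.le hle
    rw [abs_mul_abs_self] at this
    have : (0 : ℤ) < 2 ^ k := pow_pos (by norm_num) k
    linarith
  obtain ⟨a, ha⟩ : ∃ a : ℕ, (a : ℤ) = s - |w| := ⟨(s - |w|).toNat, Int.toNat_of_nonneg (by linarith)⟩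
  obtain ⟨b, hb⟩ : ∃ b : ℕ, (b : ℤ) = s + |w| :=
    ⟨(s + |w|).toNat, Int.toNat_of_nonneg (by linarith [abs_nonneg w])⟩
  have hab : a * b = 2 ^ k := by
    have : (a : ℤ) * b = ((2 ^ k : ℕ) : ℤ) := by
      push_cast; rw [ha, hb]
      have := abs_mul_abs_self w
      linear_combination hss - this
    exact_mod_cast this
  obtain ⟨i, j, rfl, rfl, hij⟩ := two_pow_factor hab
  push_cast at ha hb
  refine ⟨i, j, ?_, hij, by linarith, ?_⟩
  · have : (2 : ℕ) ^ i ≤ 2 ^ j := by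
      have h' : ((2 ^ i : ℕ) : ℤ) ≤ ((2 ^ j : ℕ) : ℤ) := by push_cast; linarith [abs_nonneg w]
      exact_mod_cast h'
    exact (Nat.pow_le_pow_iff_right (by norm_num)).mp this
  · rcases abs_choice w with h | h
    · exact Or.inl (by rw [h] at ha hb; linarith)
    · exact Or.inr (by rw [h] at ha hb; linarith)

theorem six_eq {m : ℕ} (hm : 7 ≤ m) (P : UPar m N A n) :
    N = sixN m / 6 ∧ A = sixA m / 6 ∧ n = sixn m / 6 := by
  have e1 : (2 : ℕ) ^ m + 8 ≤ 2 ^ (2 * m - 2) := by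
    have h1 : (2 : ℕ) ^ (m + 1) ≤ 2 ^ (2 * m - 2) := Nat.pow_le_pow_right (by norm_num) (by omega)
    have h2 : (2 : ℕ) ^ 3 ≤ 2 ^ m := Nat.pow_le_pow_right (by norm_num) (by omega)
    rw [pow_succ] at h1
    omega
  have e2 : (2 : ℕ) ^ (m - 2) + 2 ≤ 2 ^ (2 * m - 4) := by
    have h1 : (2 : ℕ) ^ ((m - 2) + 1) ≤ 2 ^ (2 * m - 4) := Nat.pow_le_pow_right (by norm_num) (by omega)
    have h2 : (2 : ℕ) ^ 1 ≤ 2 ^ (m - 2) := Nat.pow_le_pow_right (by norm_num) (by omega)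
    rw [pow_succ] at h1
    omega
  have e3 : (2 : ℕ) ^ (2 * m - 2) ≤ 2 ^ (2 * m) := Nat.pow_le_pow_right (by norm_num) (by omega)
  obtain ⟨p1, p2, p3⟩ := P
  by_cases he : m % 2 = 0
  · rw [(Nat.even_iff.mpr he).neg_one_pow] at p1 p2 p3
    simp only [one_mul] at p1 p2 p3
    simp only [sixN, sixA, sixn, if_pos he]
    have q1 : 6 * N + 2 = 2 ^ (2 * m) + 2 ^ m := by
      have : ((6 * N + 2 : ℕ) : ℤ) = ((2 ^ (2 * m) + 2 ^ m : ℕ) : ℤ) := by push_cast; linarith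
      exact_mod_cast this
    have q2 : 6 * A + 8 = 2 ^ (2 * m - 2) + 2 ^ m := by
      have : ((6 * A + 8 : ℕ) : ℤ) = ((2 ^ (2 * m - 2) + 2 ^ m : ℕ) : ℤ) := by push_cast; linarith
      exact_mod_cast this
    have q3 : 6 * n + 2 = 2 ^ (2 * m - 4) + 2 ^ (m - 2) := by
      have : ((6 * n + 2 : ℕ) : ℤ) = ((2 ^ (2 * m - 4) + 2 ^ (m - 2) : ℕ) : ℤ) := by push_cast; linarith
      exact_mod_cast this
    omega
  · rw [(Nat.odd_iff.mpr (by omega)).neg_one_pow] at p1 p2 p3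
    simp only [neg_one_mul] at p1 p2 p3
    simp only [sixN, sixA, sixn, if_neg he]
    have q1 : 6 * N + 2 + 2 ^ m = 2 ^ (2 * m) := by
      have : ((6 * N + 2 + 2 ^ m : ℕ) : ℤ) = ((2 ^ (2 * m) : ℕ) : ℤ) := by push_cast; linarith
      exact_mod_cast this
    have q2 : 6 * A + 8 + 2 ^ m = 2 ^ (2 * m - 2) := by
      have : ((6 * A + 8 + 2 ^ m : ℕ) : ℤ) = ((2 ^ (2 * m - 2) : ℕ) : ℤ) := by push_cast; linarith
      exact_mod_cast this
    have q3 : 6 * n + 2 + 2 ^ (m - 2) = 2 ^ (2 * m - 4) := by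
      have : ((6 * n + 2 + 2 ^ (m - 2) : ℕ) : ℤ) = ((2 ^ (2 * m - 4) : ℕ) : ℤ) := by push_cast; linarith
      exact_mod_cast this
    omega

/-- cofactor equation, `i ≥ 2`: with `T = 2^i` -/
theorem large_two {Y σ T t c μ A N n : ℤ} (hY : 4096 ≤ Y) (hY128 : 128 ∣ Y) (hσ : σ = 1 ∨ σ = -1)
    (pN : 6 * N = 16 * Y * Y + σ * (Y * 4) - 2) (pA : 6 * A = 4 * Y * Y + σ * (Y * 4) - 8)
    (pn : 6 * n = Y * Y + σ * Y - 2) (hμn : n + 1 ≤ μ) (hc0 : 0 ≤ c) (hcz : c * μ = 2 * N)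
    (hT4 : 4 ≤ T) (hT : T ≤ 64 ∨ 128 ∣ T)
    (hμ : μ = A + 2 + (2 * Y * t - T) ∨ μ = A + 2 + (T - 2 * Y * t)) : False := by
  have hYY : 4096 * Y ≤ Y * Y := mul_le_mul_of_nonneg_right hY (by linarith)
  have hc40 : c < 40 := by
    by_contra hge
    push Not at hge
    have h6 : (0 : ℤ) ≤ 6 * n + 6 := by rcases hσ with rfl | rfl <;> linarith
    have := Int.mul_le_mul hge (show 6 * n + 6 ≤ 6 * μ by linarith) h6 hc0
    have hcz' : c * (6 * μ) = 2 * (6 * N) := by linear_combination 6 * hcz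
    rw [hcz', pN, pn] at this
    rcases hσ with rfl | rfl <;> linarith
  have hc1 : c ≠ 0 := by
    rintro rfl
    rw [zero_mul] at hcz
    rcases hσ with rfl | rfl <;> linarith
  obtain ⟨u, hu⟩ : ∃ u : ℤ, 4 * Y * u = 4 + 4 * c - 6 * c * T ∨ 4 * Y * u = 4 + 4 * c + 6 * c * T := by
    rcases hμ with h | h
    · exact ⟨8 * Y + 2 * σ - c * Y - c * σ - 3 * c * t, Or.inl
        (by linear_combination 6 * c * h - 6 * hcz - 2 * pN + c * pA)⟩
    · exact ⟨8 * Y + 2 * σ - c * Y - c * σ + 3 * c * t, Or.inr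
        (by linear_combination 6 * c * h - 6 * hcz - 2 * pN + c * pA)⟩
  rcases hT with hT | ⟨a, rfl⟩
  · have hcT := Int.mul_le_mul hc40.le hT (by linarith) (by norm_num)
    have hcT0 : 0 ≤ c * T := mul_nonneg hc0 (by linarith)
    have hu0 : u = 0 := by
      by_contra hu0
      rcases lt_or_gt_of_ne hu0 with hlt | hgt
      · have : 4 * Y * u ≤ 4 * Y * (-1) := mul_le_mul_of_nonneg_left (by omega) (by linarith)
        rcases hu with h | h <;> linarith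
      · have : 4 * Y * 1 ≤ 4 * Y * u := mul_le_mul_of_nonneg_left (by omega) (by linarith)
        rcases hu with h | h <;> linarith
    subst hu0
    have h1 : 1 * 4 ≤ c * T := Int.mul_le_mul (by omega) hT4 (by norm_num) hc0
    rcases hu with h | h
    · have h2 : c * 4 ≤ c * T := mul_le_mul_of_nonneg_left hT4 hc0
      linarith
    · linarith
  · obtain ⟨g, rfl⟩ := hY128
    have h256 : ∃ v : ℤ, 4 + 4 * c = 256 * v := by
      rcases hu with h | h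
      · exact ⟨2 * g * u + 3 * c * a, by linear_combination -h⟩
      · exact ⟨2 * g * u - 3 * c * a, by linear_combination -h⟩
    obtain ⟨v, hv⟩ := h256
    omega

/-- cofactor equation, `i = 1` -/
theorem large_one {Y σ c μ N : ℤ} (hY : 4096 ≤ Y) (hσ : σ = 1 ∨ σ = -1)
    (pN : 6 * N = 16 * Y * Y + σ * (Y * 4) - 2) (h6 : 6 * μ = 10 * Y * Y + 4 * σ * Y - 8) (hc1 : 0 ≤ c)
    (hcz : c * μ = 4 * N) : False := by
  have hcz' : c * (6 * μ) = 4 * (6 * N) := by linear_combination 6 * hcz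
  rw [h6, pN] at hcz'
  have hYY : 4096 * Y ≤ Y * Y := mul_le_mul_of_nonneg_right hY (by linarith)
  have hc7 : c < 8 := by
    by_contra hge
    push Not at hge
    have hpos : (0 : ℤ) ≤ 10 * Y * Y + 4 * σ * Y - 8 := by rcases hσ with rfl | rfl <;> linarith
    have := mul_le_mul_of_nonneg_right hge hpos
    rw [hcz'] at this
    rcases hσ with rfl | rfl <;> linarith
  obtain ⟨z, hmod⟩ : ∃ z, 8 * c - 8 = Y * z :=
    ⟨10 * c * Y + 4 * c * σ - 64 * Y - 16 * σ, by linear_combination -hcz'⟩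
  have hz : z = 0 := by
    by_contra hz
    rcases lt_or_gt_of_ne hz with hlt | hgt
    · have : Y * z ≤ Y * (-1) := mul_le_mul_of_nonneg_left (by omega) (by linarith)
      linarith
    · have : Y * 1 ≤ Y * z := mul_le_mul_of_nonneg_left (by omega) (by linarith)
      linarith
  rw [hz, mul_zero] at hmod
  obtain rfl : c = 1 := by linarith
  rcases hσ with rfl | rfl <;> linarith

theorem two_dvd_pow {k l : ℕ} (h : l ≤ k) : ∃ a : ℤ, (2 : ℤ) ^ k = 2 ^ l * a :=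
  ⟨2 ^ (k - l), by rw [← pow_add]; congr 1; omega⟩

/-- the large factorisations do not divide -/
theorem unitary_large {m i j : ℕ} (hm : 14 ≤ m) (hij : i + j = 2 * m - 3) (hle : i ≤ j) (hi : 1 ≤ i)
    (P : UPar m N A n) (hμe : Even μ) (hμn : n < μ) (hμN : μ ≤ N)
    (hμ : (μ : ℤ) = A + 2 + (2 ^ j - 2 ^ i) ∨ (μ : ℤ) = A + 2 + (2 ^ i - 2 ^ j))
    (hdvd : μ ∣ N * 2 ^ (2 * m - 3)) : False := by
  obtain ⟨p1, p2, p3⟩ := P
  obtain ⟨σ, hσdef⟩ : ∃ σ : ℤ, σ = (-1) ^ m := ⟨_, rfl⟩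
  have hσ : σ = 1 ∨ σ = -1 := hσdef ▸ neg_one_pow_eq_or ℤ m
  obtain ⟨Y, hYdef⟩ : ∃ Y : ℤ, Y = 2 ^ (m - 2) := ⟨_, rfl⟩
  have x0 : (2 : ℤ) ^ m = Y * 4 := by
    rw [hYdef, show (4 : ℤ) = 2 ^ 2 by norm_num, ← pow_add]; congr 1; omega
  have x3 : (2 : ℤ) ^ (2 * m - 4) = Y * Y := by rw [hYdef, ← pow_add]; congr 1; omega
  have x1 : (2 : ℤ) ^ (2 * m) = 16 * Y * Y := by
    rw [show (16 : ℤ) * Y * Y = 2 ^ 4 * (Y * Y) by ring, ← x3, ← pow_add]; congr 1; omega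
  have x2 : (2 : ℤ) ^ (2 * m - 2) = 4 * Y * Y := by
    rw [show (4 : ℤ) * Y * Y = 2 ^ 2 * (Y * Y) by ring, ← x3, ← pow_add]; congr 1; omega
  have hY : 4096 ≤ Y := by
    rw [hYdef]
    calc (4096 : ℤ) = 2 ^ 12 := by norm_num
      _ ≤ 2 ^ (m - 2) := pow_le_pow_right₀ (by norm_num) (by omega)
  rw [← hσdef, x1, x0] at p1
  rw [← hσdef, x2, x0] at p2
  rw [← hσdef, x3, ← hYdef] at p3
  obtain ⟨μ', hμ'⟩ := hμe
  have hμz : (μ : ℤ) = μ' + μ' := by exact_mod_cast hμ'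
  obtain ⟨g, hg⟩ := two_dvd_pow (show 7 ≤ m - 2 by omega)
  rw [← hYdef] at hg
  norm_num at hg
  have hcopr : ∀ o : ℕ, Odd o → o ∣ μ → ∃ c : ℕ, (N : ℤ) = o * c := fun o ho hom => by
    have hcop : Nat.Coprime o (2 ^ (2 * m - 3)) := Nat.Coprime.pow_right _ (Nat.coprime_two_right.mpr ho)
    obtain ⟨c, hc⟩ := hcop.dvd_of_dvd_mul_right (hom.trans hdvd)
    exact ⟨c, by exact_mod_cast hc⟩
  by_cases hi2 : 2 ≤ i
  · obtain ⟨a, ha⟩ := two_dvd_pow hi2
    obtain ⟨b, hb⟩ := two_dvd_pow (show 2 ≤ j by omega)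
    obtain ⟨t, ht⟩ := two_dvd_pow (show m - 1 ≤ j by omega)
    rw [show (2 : ℤ) ^ (m - 1) = 2 * Y by rw [hYdef, ← pow_succ']; congr 1; omega] at ht
    norm_num at ha hb
    have hodd : Odd μ' := by
      rw [Nat.odd_iff]
      obtain ⟨e, he⟩ : ∃ e : ℤ, 6 * (A : ℤ) + 8 = 8 * e :=
        ⟨8192 * g * g + 64 * σ * g, by rw [p2, hg]; ring⟩
      rcases hμ with h | h <;> omega
    obtain ⟨c, hc⟩ := hcopr μ' hodd ⟨2, by omega⟩
    refine large_two (T := 2 ^ i) (t := t) (c := c) (μ := (μ : ℤ)) hY ⟨g, hg⟩ hσ p1 p2 p3 (by omega) (Int.natCast_nonneg c)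
      (by rw [hμz, hc]; ring) ?_ ?_ (by rwa [← ht])
    · calc (4 : ℤ) = 2 ^ 2 := by norm_num
        _ ≤ 2 ^ i := pow_le_pow_right₀ (by norm_num) hi2
    · by_cases hi6 : i ≤ 6
      · left
        calc (2 : ℤ) ^ i ≤ 2 ^ 6 := pow_le_pow_right₀ (by norm_num) hi6
          _ = 64 := by norm_num
      · obtain ⟨a', ha'⟩ := two_dvd_pow (show 7 ≤ i by omega)
        norm_num at ha'
        exact Or.inr ⟨a', ha'⟩
  · obtain rfl : i = 1 := by omega
    rw [show j = 2 * m - 4 by omega, x3, pow_one] at hμ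
    rcases hμ with h | h
    · have h6 : (6 : ℤ) * μ = 10 * Y * Y + 4 * σ * Y - 8 := by linear_combination 6 * h + p2
      obtain ⟨e, he⟩ : ∃ e : ℤ, 12 * (μ' : ℤ) = 32 * e - 8 :=
        ⟨5120 * g * g + 16 * σ * g, by rw [hμz, hg] at h6; linear_combination h6⟩
      have ho : Odd (μ' / 2) := by rw [Nat.odd_iff]; omega
      have hm2 : μ' = μ' / 2 + μ' / 2 := by omega
      obtain ⟨c, hc⟩ := hcopr (μ' / 2) ho ⟨4, by omega⟩
      refine large_one (c := (c : ℤ)) hY hσ p1 h6 (Int.natCast_nonneg c) ?_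
      have : (μ' : ℤ) = ((μ' / 2 : ℕ) : ℤ) + ((μ' / 2 : ℕ) : ℤ) := by exact_mod_cast hm2
      rw [hμz, hc, this]; ring
    · have h6 : (6 : ℤ) * μ = -2 * Y * Y + 4 * σ * Y + 16 := by linear_combination 6 * h + p2
      have : (0 : ℤ) ≤ μ := by positivity
      have hYY : 4096 * Y ≤ Y * Y := mul_le_mul_of_nonneg_right hY (by linarith)
      rcases hσ with rfl | rfl <;> linarith

/-- U(m,2), m ≥ 7 -/
theorem no_unitary {m : ℕ} (hm : 7 ≤ m) (P : UPar m N A n) (hf : Fits N A n μ F) : False := by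
  obtain ⟨eN, eA, en⟩ := six_eq hm P
  have hnc : (N : ℤ) - 1 - A = 2 ^ (2 * m - 3) := by
    have h1 : (2 : ℤ) ^ (2 * m) = 8 * 2 ^ (2 * m - 3) := by
      rw [show (8 : ℤ) = 2 ^ 3 by norm_num, ← pow_add]; congr 1; omega
    have h2 : (2 : ℤ) ^ (2 * m - 2) = 2 * 2 ^ (2 * m - 3) := by
      rw [← pow_succ']; congr 1; omega
    have := P.hN; have := P.hA
    linarith
  have hcA : 2 ^ (2 * m - 3) + 1 + A = N := by
    have : ((2 ^ (2 * m - 3) + 1 + A : ℕ) : ℤ) = N := by push_cast; linarith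
    exact_mod_cast this
  obtain ⟨⟨h, hμh, -⟩, hμN, hF, -⟩ := id hf
  have hAe : ∃ a, A = 2 * a ∧ Odd n := by
    have hdiv : ∀ k, 3 ≤ k → ∃ u : ℤ, (2 : ℤ) ^ k = 8 * u := fun k hk =>
      ⟨2 ^ (k - 3), by rw [show (8 : ℤ) = 2 ^ 3 by norm_num, ← pow_add]; congr 1; omega⟩
    obtain ⟨u1, hu1⟩ := hdiv (2 * m - 2) (by omega)
    obtain ⟨u2, hu2⟩ := hdiv m (by omega)
    obtain ⟨u3, hu3⟩ := hdiv (2 * m - 4) (by omega)
    obtain ⟨u4, hu4⟩ := hdiv (m - 2) (by omega)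
    have hA' := P.hA; have hn' := P.hn
    rw [hu1, hu2] at hA'
    rw [hu3, hu4] at hn'
    rcases neg_one_pow_eq_or ℤ m with hσ | hσ <;> rw [hσ] at hA' hn' <;>
      exact ⟨A / 2, by omega, Nat.odd_iff.mpr (by omega)⟩
  obtain ⟨a, hAe, hnodd⟩ := hAe
  have hμe : Even μ := by
    rw [hμh]; obtain ⟨t, ht⟩ := hnodd; exact ⟨t + 1 + h, by omega⟩
  have hc0 : 0 < 2 ^ (2 * m - 3) := Nat.two_pow_pos _
  rcases hf.square (by omega) with ⟨s, e, hs, hss, he⟩ | hconf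
  swap
  · have hN' := P.hN; have hA' := P.hA
    have hz : (N : ℤ) = 2 * (A + 1) := by exact_mod_cast hconf
    have h1 : (2 : ℤ) ^ (2 * m) = 4 * 2 ^ (2 * m - 2) := by
      rw [show (4 : ℤ) = 2 ^ 2 by norm_num, ← pow_add]; congr 1; omega
    have h2 : (2 : ℤ) ^ (2 * m - 2) = 2 ^ (m - 2) * 2 ^ m := by rw [← pow_add]; congr 1; omega
    have hb : (32 : ℤ) ≤ 2 ^ (m - 2) := by
      calc (32 : ℤ) = 2 ^ 5 := by norm_num
        _ ≤ 2 ^ (m - 2) := pow_le_pow_right₀ (by norm_num) (by omega)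
    have hx : (32 : ℤ) ≤ 2 ^ m := by
      calc (32 : ℤ) = 2 ^ 5 := by norm_num
        _ ≤ 2 ^ m := pow_le_pow_right₀ (by norm_num) (by omega)
    rcases neg_one_pow_eq_or ℤ m with hσ | hσ <;> rw [hσ] at hN' hA' <;> nlinarith
  rw [hnc] at hss
  have hss' : s * s = ((μ : ℤ) - A - 2) * ((μ : ℤ) - A - 2) + 2 ^ (2 * m - 1) := by
    rw [hss, show 2 * m - 1 = (2 * m - 3) + 2 by omega, pow_add]; ring
  obtain ⟨i', j', hle, hij, hsum, hw⟩ := square_two_pow (by omega) hs hss'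
  obtain ⟨μ', hμ'⟩ := hμe
  have hμz : (μ : ℤ) = μ' + μ' := by exact_mod_cast hμ'
  have hi2 : 2 ≤ i' := by
    by_contra hc
    have hj' : 2 ≤ j' := by omega
    obtain ⟨b, hb⟩ : ∃ b : ℤ, (2 : ℤ) ^ j' = 4 * b :=
      ⟨2 ^ (j' - 2), by rw [show (4 : ℤ) = 2 ^ 2 by norm_num, ← pow_add]; congr 1; omega⟩
    rcases (show i' = 0 ∨ i' = 1 by omega) with rfl | rfl <;>
    · rw [hb] at hw
      norm_num at hw
      have : (A : ℤ) = 2 * a := by exact_mod_cast hAe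
      omega
  obtain ⟨i, rfl⟩ : ∃ i, i' = i + 1 := ⟨i' - 1, by omega⟩
  obtain ⟨j, rfl⟩ : ∃ j, j' = j + 1 := ⟨j' - 1, by omega⟩
  rw [pow_succ, pow_succ] at hsum hw
  have hμcases : (μ : ℤ) = A + 2 + (2 ^ j - 2 ^ i) ∨ (μ : ℤ) = A + 2 + (2 ^ i - 2 ^ j) := by
    rcases hw with h | h <;> [left; right] <;> linarith
  have hdvd : μ ∣ N * 2 ^ (2 * m - 3) := hf.dvd _ hcA
  by_cases hm14 : 14 ≤ m
  · exact unitary_large hm14 (show i + j = 2 * m - 3 by omega) (by omega) (by omega) P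
      ⟨μ', hμ'⟩ (by omega) hμN hμcases hdvd
  have hall := smallFree_eq
  simp only [smallFree, List.all_eq_true, List.mem_range] at hall
  have := hall (m - 7) (by omega) i (by omega)
  rw [show m - 7 + 7 = m by omega, show 2 * m - 3 - i = j by omega, Bool.or_eq_true, decide_eq_true_eq] at this
  have hbad := this.resolve_left (by omega)
  simp only [badPair, ← eN, ← eA, ← en, show 2 * m - 3 - i = j by omega, Bool.and_eq_true,
    Bool.or_eq_true] at hbad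
  have hFval : N * 2 ^ (2 * m - 3) / μ = F := by
    refine Nat.div_eq_of_eq_mul_right (by omega) ?_
    obtain ⟨c, rfl⟩ : ∃ c, N = c + (1 + A) := ⟨N - (1 + A), by omega⟩
    have hc2 : c = 2 ^ (2 * m - 3) := by omega
    subst hc2
    linear_combination -hF
  have key : ∀ ν, ν = μ → badCand N A n (2 ^ (2 * m - 3)) (2 ^ j + 2 ^ i) ν = true → False := by
    rintro ν rfl hb
    simp only [badCand, Bool.or_eq_true, decide_eq_true_eq] at hb
    rcases hb with (((hb | hb) | hb) | hb) | hb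
    · omega
    · omega
    · omega
    · exact hb (Nat.mod_eq_zero_of_dvd hdvd)
    · refine hb (Int.emod_eq_zero_of_dvd ?_)
      rw [hFval, he]
      have hs' : s = ((2 ^ j + 2 ^ i : ℕ) : ℤ) := by push_cast; linarith
      rw [hs']
      exact Dvd.intro_left e rfl
  rcases hμcases with h | h
  · refine key _ ?_ hbad.1
    have h' : (2 : ℕ) ^ i ≤ 2 ^ j := Nat.pow_le_pow_right (by norm_num) (by omega)
    have : ((μ + 2 ^ i : ℕ) : ℤ) = ((A + 2 + 2 ^ j : ℕ) : ℤ) := by push_cast; linarith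
    have : μ + 2 ^ i = A + 2 + 2 ^ j := by exact_mod_cast this
    omega
  · have : ((μ + 2 ^ j : ℕ) : ℤ) = ((A + 2 + 2 ^ i : ℕ) : ℤ) := by push_cast; linarith
    have hμ2 : μ + 2 ^ j = A + 2 + 2 ^ i := by exact_mod_cast this
    rcases hbad.2 with hb | hb
    · rw [decide_eq_true_eq] at hb; omega
    · exact key _ (by omega) hb

end Cfsg.Agent.Lib.FischerImpossible42.Arith
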