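import Mathlib

/-!
A strongly regular graph has integral eigenvalues or is a conference graph.

Owner: helper42.
-/

set_option autoImplicit false
set_option linter.style.haveILetI false
set_option linter.unusedSectionVars false

namespace Cfsg.Agent.Lib.FischerImpossible42

open Matrix

/-- the trace of a real idempotent is a natural number -/
theorem exists_trace_nat {α : Type*} [Fintype α] [DecidableEq α] {M : Matrix α α ℝ} (hM : M * M = M) :
    ∃ r : ℕ, M.trace = r := by
  have hf : Matrix.toLin' M ∘ₗ Matrix.toLin' M = Matrix.toLin' M := by rw [← Matrix.toLin'_mul, hM]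
  have hp : LinearMap.IsProj (LinearMap.range (Matrix.toLin' M)) (Matrix.toLin' M) :=
    ⟨fun x => LinearMap.mem_range_self _ x, by
      rintro _ ⟨x, rfl⟩
      exact LinearMap.congr_fun hf x⟩
  exact ⟨_, by rw [← Matrix.trace_toLin'_eq, hp.trace]⟩

variable {V : Type*} [Fintype V] [DecidableEq V] {R : V → V → Prop} [DecidableRel R]

/-- the adjacency matrix -/
noncomputable def adjM (R : V → V → Prop) [DecidableRel R] : Matrix V V ℝ := fun x y => if R x y then 1 else 0

/-- the all one matrix -/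
def onesM (V : Type*) : Matrix V V ℝ := fun _ _ => 1

/-- the parameters of the graph -/
structure Srg (R : V → V → Prop) [DecidableRel R] (k l m : ℕ) : Prop where
  symm : ∀ x y, R x y → R y x
  irrefl : ∀ x, ¬ R x x
  deg : ∀ x, (Finset.univ.filter fun z => R x z).card = k
  adj : ∀ x y, R x y → (Finset.univ.filter fun z => R x z ∧ R y z).card = l
  nonadj : ∀ x y, x ≠ y → ¬ R x y → (Finset.univ.filter fun z => R x z ∧ R y z).card = m

variable {k l m : ℕ}

/-- `2k + (v-1)(λ-μ)` is zero, or a multiple of an integral square root of the discriminant -/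
theorem Srg.integral (h : Srg R k l m) (x₀ : V) (hΔ : 0 < ((l : ℤ) - m) ^ 2 + 4 * ((k : ℤ) - m)) :
    2 * (k : ℤ) + ((Fintype.card V : ℤ) - 1) * ((l : ℤ) - m) = 0 ∨
      ∃ s e : ℤ, 0 < s ∧ s * s = ((l : ℤ) - m) ^ 2 + 4 * ((k : ℤ) - m) ∧
        2 * (k : ℤ) + ((Fintype.card V : ℤ) - 1) * ((l : ℤ) - m) = e * s := by
  classical
  set Δ : ℤ := ((l : ℤ) - m) ^ 2 + 4 * ((k : ℤ) - m) with hΔdef
  set w : ℤ := 2 * (k : ℤ) + ((Fintype.card V : ℤ) - 1) * ((l : ℤ) - m) with hwdef
  set n : ℝ := (Fintype.card V : ℝ) with hn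
  have hn0 : n ≠ 0 := by
    rw [hn]
    exact_mod_cast (Fintype.card_pos_iff.mpr ⟨x₀⟩).ne'
  set r : ℝ := Real.sqrt (Δ : ℝ) with hr
  have hΔR : (0 : ℝ) < (Δ : ℝ) := by exact_mod_cast hΔ
  have hrr : r * r = (Δ : ℝ) := Real.mul_self_sqrt hΔR.le
  have hr0 : r ≠ 0 := (Real.sqrt_pos.mpr hΔR).ne'
  set A : Matrix V V ℝ := adjM R with hA
  set J : Matrix V V ℝ := onesM V with hJ
  have hrow : ∀ x, ∑ z, A x z = k := fun x => by
    simp only [hA, adjM, Finset.sum_boole]; rw [h.deg x]
  have hsym : ∀ x y, A x y = A y x := fun x y => by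
    simp only [hA, adjM]
    by_cases h1 : R x y
    · simp [h1, h.symm x y h1]
    · simp [h1, show ¬ R y x from fun h' => h1 (h.symm y x h')]
  have hAA : A * A = ((k : ℝ) - m) • (1 : Matrix V V ℝ) + ((l : ℝ) - m) • A + (m : ℝ) • J := by
    ext x y
    have e : (A * A) x y = ((Finset.univ.filter fun z => R x z ∧ R y z).card : ℝ) := by
      rw [Matrix.mul_apply, ← Finset.sum_boole]
      refine Finset.sum_congr rfl fun z _ => ?_
      rw [hsym z y]
      by_cases h1 : R x z <;> by_cases h2 : R y z <;> simp [hA, adjM, h1, h2]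
    rw [e]
    simp only [Matrix.add_apply, Matrix.smul_apply, Matrix.one_apply, hJ, onesM, hA, adjM, smul_eq_mul, mul_one]
    by_cases hxy : x = y
    · subst hxy
      simp [h.irrefl, h.deg]
    · by_cases hR : R x y
      · simp [hxy, hR, h.adj x y hR]
      · simp [hxy, hR, h.nonadj x y hxy hR]
  have hAJ : A * J = (k : ℝ) • J := by
    ext x y
    simp [Matrix.mul_apply, hJ, onesM, hrow x]
  have hJA : J * A = (k : ℝ) • J := by
    ext x y
    simp only [Matrix.mul_apply, hJ, onesM, one_mul, hsym _ y, hrow y, Matrix.smul_apply, smul_eq_mul, mul_one]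
  have hJJ : J * J = n • J := by
    ext x y
    simp [Matrix.mul_apply, hJ, onesM, hn]
  have hcount : (k : ℝ) * k = ((k : ℝ) - m) + ((l : ℝ) - m) * k + m * n := by
    have h1 : A * A * J = ((k : ℝ) * k) • J := by
      rw [mul_assoc, hAJ, Matrix.mul_smul, hAJ, smul_smul]
    rw [hAA, add_mul, add_mul, Matrix.smul_mul, Matrix.smul_mul, Matrix.smul_mul, Matrix.one_mul, hAJ, hJJ,
      smul_smul, smul_smul] at h1
    have := congrFun (congrFun h1 x₀) x₀
    simp only [Matrix.add_apply, Matrix.smul_apply, hJ, onesM, smul_eq_mul, mul_one] at this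
    linear_combination -this
  set t : ℝ := (((l : ℝ) - m) + r) / 2 with ht
  set t' : ℝ := (((l : ℝ) - m) - r) / 2 with ht'
  have htt : t - t' = r := by rw [ht, ht']; ring
  have hsum : t + t' = (l : ℝ) - m := by rw [ht, ht']; ring
  have hprod : t * t' = (m : ℝ) - k := by
    have : (Δ : ℝ) = ((l : ℝ) - m) ^ 2 + 4 * ((k : ℝ) - m) := by rw [hΔdef]; push_cast; ring
    rw [ht, ht']
    linear_combination (-1 / 4 : ℝ) * hrr - (1 / 4 : ℝ) * this
  set c := ((k : ℝ) - t') / n with hc
  set X : Matrix V V ℝ := A - t' • (1 : Matrix V V ℝ) - c • J with hX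
  have hm : ((m : ℝ)) - c * k + c * t' - c * k + c * t' + c * c * n = -(c * (t - t')) := by
    rw [hc]
    field_simp
    linear_combination -hcount + (k : ℝ) * hsum - hprod
  have hXX : X * X = (t - t') • X := by
    rw [hX]
    simp only [sub_mul, mul_sub, Matrix.smul_mul, Matrix.mul_smul, Matrix.one_mul, Matrix.mul_one]
    rw [hAA, hAJ, hJA, hJJ]
    simp only [smul_smul]
    match_scalars
    · linear_combination hprod
    · linear_combination -hsum
    · linear_combination hm
  set M : Matrix V V ℝ := (1 / r) • X with hM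
  have hMM : M * M = M := by
    rw [hM, Matrix.smul_mul, Matrix.mul_smul, hXX, smul_smul, smul_smul, htt]
    congr 1
    field_simp
  obtain ⟨f, hf⟩ := exists_trace_nat hMM
  have htr : (f : ℝ) * r = -(n * t') - ((k : ℝ) - t') := by
    have e : ∀ x, M x x = (1 / r) * (-t' - c) := fun x => by
      simp [hM, hX, hA, adjM, hJ, onesM, h.irrefl]
    rw [← hf]
    show (∑ x, M x x) * r = _
    simp only [e, Finset.sum_const, Finset.card_univ, nsmul_eq_mul, ← hn]
    rw [hc]
    field_simp
  have hw : (w : ℝ) = ((Fintype.card V : ℤ) - 1 - 2 * (f : ℤ) : ℤ) * r := by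
    rw [hwdef]
    push_cast
    rw [← hn]
    rw [ht'] at htr
    linear_combination 2 * htr
  set e : ℤ := (Fintype.card V : ℤ) - 1 - 2 * (f : ℤ)
  have hsq : w * w = e * e * Δ := by
    have : ((w * w : ℤ) : ℝ) = ((e * e * Δ : ℤ) : ℝ) := by
      push_cast
      rw [← hrr, hw]; ring
    exact_mod_cast this
  by_cases hw0 : w = 0
  · exact Or.inl hw0
  refine Or.inr ?_
  have he : e ≠ 0 := fun h0 => hw0 (by
    rw [h0, zero_mul, zero_mul] at hsq
    exact mul_self_eq_zero.mp hsq)
  obtain ⟨s, hs⟩ : e ∣ w := by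
    rw [← Int.pow_dvd_pow_iff (n := 2) (by norm_num), sq, sq]
    exact ⟨Δ, hsq⟩
  have hss : s * s = Δ := by
    have : e * e * (s * s) = e * e * Δ := by rw [← hsq, hs]; ring
    exact mul_left_cancel₀ (mul_ne_zero he he) this
  have hs0 : s ≠ 0 := fun h0 => hw0 (by rw [hs, h0, mul_zero])
  rcases lt_or_gt_of_ne hs0 with hneg | hpos
  · exact ⟨-s, -e, by omega, by rw [neg_mul_neg, hss], by rw [hs, neg_mul_neg]⟩
  · exact ⟨s, e, hpos, hss, hs⟩

end Cfsg.Agent.Lib.FischerImpossible42
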